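import Mathlib
import Cfsg.Agent.Lib.Cores
import Cfsg.Agent.Lib.HallTriple
import Cfsg.Prelude.Def_CaseTheorems
import Cfsg.Agent.SporadicStructure.FischerRank3
import Cfsg.Agent.ThreeTransPolar.Main
import Cfsg.Agent.SporadicStructure.FSolReduce
set_option linter.all false

set_option autoImplicit false
set_option linter.style.haveILetI false

/-!
# Inheritance: `⟨D_x⟩ / Z` is again a Fischer 3-transposition group
-/

namespace Cfsg.Agent.Fischer160.Inherit

open Cfsg Cfsg.Agent.SporadicStructure.FischerSpace Cfsg.Agent.SporadicStructure.FischerPrimitive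
open Cfsg.Agent.SporadicStructure.FischerRank3 Cfsg.Agent.ThreeTransPolar.Basic
open Cfsg.Agent.ThreeTransPolar.Lines Cfsg.Agent.Lib.Cores
open scoped commutatorElement

section General

variable {H : Type*} [Group H]

/-- In a finite group with central cores every solvable normal subgroup is central. -/
theorem solvable_normal_le_center [Finite H] (h2 : Cfsg.pCore 2 H ≤ Subgroup.center H)
    (ho : Cfsg.oddCore H ≤ Subgroup.center H) :
    ∀ M : Subgroup H, M.Normal → Group.IsSolvable M → M ≤ Subgroup.center H := by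
  intro M
  induction' hn : Nat.card M using Nat.strong_induction_on with n ih generalizing M
  intro hM hs
  by_cases hbot : M = ⊥
  · rw [hbot]; exact bot_le
  have hlt : ⁅M, M⁆ < M := by
    refine lt_of_le_of_ne (Subgroup.commutator_le_right M M) ?_
    intro heq
    apply hbot
    have h1 : commutator M = ⊤ := by
      apply Subgroup.map_injective M.subtype_injective
      rw [Subgroup.map_subtype_commutator, heq, ← MonoidHom.range_eq_map, Subgroup.range_subtype]
    have h3 : Group.IsSolvable M := hs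
    by_contra hne
    haveI : Nontrivial M := (Subgroup.nontrivial_iff_ne_bot M).2 hne
    obtain ⟨k, hk⟩ := h3
    have h4 : ∀ k, derivedSeries M k = ⊤ := by
      intro k
      induction k with
      | zero => rfl
      | succ k ihk => rw [derivedSeries_succ, ihk]; exact h1
    rw [h4 k] at hk
    exact absurd hk top_ne_bot
  have hcard : Nat.card (⁅M, M⁆ : Subgroup H) < n := by
    rw [← hn]
    exact Set.ncard_lt_ncard (s := ((⁅M, M⁆ : Subgroup H) : Set H)) (t := (M : Set H)) hlt
      (Set.toFinite _)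
  have hnorm : (⁅M, M⁆ : Subgroup H).Normal := by
    haveI := hM
    infer_instance
  have hsol : Group.IsSolvable (⁅M, M⁆ : Subgroup H) := by
    haveI : Group.IsSolvable M := hs
    exact Group.isSolvable_of_isSolvable_injective
      (f := Subgroup.inclusion (Subgroup.commutator_le_right M M))
      (Subgroup.inclusion_injective _)
  have hc := ih _ hcard _ rfl hnorm hsol
  have hnil : Group.IsNilpotent M := by
    have h1 : (commutator M) ≤ Subgroup.center M := by
      intro g hg
      have h2 : (g : H) ∈ ⁅M, M⁆ := by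
        rw [← Subgroup.map_subtype_commutator]
        exact ⟨g, hg, rfl⟩
      have h4 := hc h2
      rw [Subgroup.mem_center_iff] at h4 ⊢
      intro k
      apply Subtype.ext
      exact h4 k
    have h5 : (QuotientGroup.mk' (commutator M)).ker ≤ Subgroup.center M := by
      rw [QuotientGroup.ker_mk']
      exact h1
    haveI : Group.IsNilpotent (M ⧸ commutator M) := by
      change Group.IsNilpotent (Abelianization M)
      infer_instance
    exact Subgroup.isNilpotent_of_ker_le_center _ h5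
  have h6 := le_iSup_pCore_of_isNilpotent hM hnil
  refine h6.trans (iSup_le ?_)
  rintro ⟨p, hp⟩
  haveI : Fact p.Prime := ⟨hp⟩
  by_cases hp2 : p = 2
  · subst hp2; exact h2
  · refine le_trans ?_ ho
    apply le_pPrimeCore (pCore_normal (G := H) p)
    obtain ⟨k, hk⟩ := (IsPGroup.iff_card).1 (pCore_isPGroup (G := H) p)
    show (Nat.card (Cfsg.pCore p H)).Coprime 2
    rw [hk]
    apply Nat.Coprime.pow_left
    exact (Nat.coprime_primes hp Nat.prime_two).2 hp2

/-- The products of two elements of `E`. -/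
def prods (E : Set H) : Subgroup H := Subgroup.closure {g | ∃ e ∈ E, ∃ f ∈ E, g = e * f}

theorem mul_mem_prods {E : Set H} {e f : H} (he : e ∈ E) (hf : f ∈ E) : e * f ∈ prods E :=
  Subgroup.subset_closure ⟨e, he, f, hf, rfl⟩

theorem prods_normal {E : Set H} (hconj : ∀ g : H, ∀ e ∈ E, g * e * g⁻¹ ∈ E) :
    (prods E).Normal := by
  constructor
  intro n hn g
  induction hn using Subgroup.closure_induction with
  | mem x hx =>
    obtain ⟨e, he, f, hf, rfl⟩ := hx
    have : g * (e * f) * g⁻¹ = (g * e * g⁻¹) * (g * f * g⁻¹) := by group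
    rw [this]
    exact mul_mem_prods (hconj g e he) (hconj g f hf)
  | one => simp [Subgroup.one_mem]
  | mul x y _ _ hx hy =>
    have : g * (x * y) * g⁻¹ = (g * x * g⁻¹) * (g * y * g⁻¹) := by group
    rw [this]
    exact Subgroup.mul_mem _ hx hy
  | inv x _ hx =>
    have : g * x⁻¹ * g⁻¹ = (g * x * g⁻¹)⁻¹ := by group
    rw [this]
    exact Subgroup.inv_mem _ hx

/-- every element is in `prods E` or in `prods E * e`. -/
theorem mem_prods_or {E : Set H} (hconj : ∀ g : H, ∀ e ∈ E, g * e * g⁻¹ ∈ E)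
    (hsq : ∀ e ∈ E, e * e = 1) (hgen : Subgroup.closure E = ⊤) {e : H} (he : e ∈ E) (m : H) :
    m ∈ prods E ∨ m * e ∈ prods E := by
  have hN := prods_normal hconj
  have hm : m ∈ Subgroup.closure E := by rw [hgen]; trivial
  induction hm using Subgroup.closure_induction with
  | mem x hx => exact Or.inr (mul_mem_prods hx he)
  | one => exact Or.inl (Subgroup.one_mem _)
  | mul x y _ _ hx hy =>
    rcases hx with hx | hx <;> rcases hy with hy | hy
    · exact Or.inl (Subgroup.mul_mem _ hx hy)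
    · right
      rw [mul_assoc]
      exact Subgroup.mul_mem _ hx hy
    · right
      have h1 : x * y * e = (x * e) * (e⁻¹ * y * e⁻¹⁻¹) := by group
      rw [h1]
      exact Subgroup.mul_mem _ hx (hN.conj_mem _ hy _)
    · left
      have h1 : x * y = (x * e) * (e⁻¹ * (y * e) * e⁻¹⁻¹) * (e * e)⁻¹ := by group
      rw [h1, hsq e he, inv_one, mul_one]
      exact Subgroup.mul_mem _ hx (hN.conj_mem _ hy _)
  | inv x _ hx =>
    rcases hx with hx | hx
    · exact Or.inl (Subgroup.inv_mem _ hx)
    · right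
      have h1 : x⁻¹ * e = e * (x * e)⁻¹ * e⁻¹ * (e * e) := by group
      rw [h1, hsq e he, mul_one]
      exact hN.conj_mem _ (Subgroup.inv_mem _ hx) _

theorem commutator_le_prods {E : Set H} (hconj : ∀ g : H, ∀ e ∈ E, g * e * g⁻¹ ∈ E)
    (hsq : ∀ e ∈ E, e * e = 1) (hgen : Subgroup.closure E = ⊤) (hne : E.Nonempty) :
    commutator H ≤ prods E := by
  obtain ⟨e, he⟩ := hne
  have hN := prods_normal hconj
  rw [commutator_def, Subgroup.commutator_le]
  intro a _ b _
  rw [commutatorElement_def]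
  have key : ∀ a b : H, a ∈ prods E → a * b * a⁻¹ * b⁻¹ ∈ prods E := by
    intro a b ha
    have h1 : a * b * a⁻¹ * b⁻¹ = a * (b * a⁻¹ * b⁻¹) := by group
    rw [h1]
    exact Subgroup.mul_mem _ ha (hN.conj_mem _ (Subgroup.inv_mem _ ha) _)
  have key2 : ∀ a b : H, b ∈ prods E → a * b * a⁻¹ * b⁻¹ ∈ prods E := by
    intro a b hb
    exact Subgroup.mul_mem _ (hN.conj_mem _ hb _) (Subgroup.inv_mem _ hb)
  rcases mem_prods_or hconj hsq hgen he a with ha | ha
  · exact key a b ha
  rcases mem_prods_or hconj hsq hgen he b with hb | hb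
  · exact key2 a b hb
  · -- a = s e, b = t e
    have ee : e⁻¹ = e := by rw [inv_eq_iff_mul_eq_one]; exact hsq e he
    have h1 : a * b * a⁻¹ * b⁻¹ = (a * e) * (e * (b * e) * e⁻¹) * ((e * (a * e) * e⁻¹))⁻¹ *
        (b * e)⁻¹ := by
      simp only [mul_inv_rev, inv_inv, ee, mul_assoc]
      simp only [← mul_assoc e e, hsq e he, one_mul]
    rw [h1]
    exact Subgroup.mul_mem _ (Subgroup.mul_mem _ (Subgroup.mul_mem _ ha (hN.conj_mem _ hb _))
      (Subgroup.inv_mem _ (hN.conj_mem _ ha _))) (Subgroup.inv_mem _ hb)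

theorem prods_le_commutator {E : Set H} (hsq : ∀ e ∈ E, e * e = 1)
    (hsingle : ∀ e ∈ E, ∀ f ∈ E, ∃ g : H, g * e * g⁻¹ = f) : prods E ≤ commutator H := by
  rw [prods, Subgroup.closure_le]
  rintro _ ⟨e, he, f, hf, rfl⟩
  obtain ⟨g, rfl⟩ := hsingle e he f hf
  have ee : e⁻¹ = e := by rw [inv_eq_iff_mul_eq_one]; exact hsq e he
  have h1 : e * (g * e * g⁻¹) = ⁅e, g⁆ := by
    rw [commutatorElement_def, ee]
    group
  rw [SetLike.mem_coe, h1, commutator_def]
  exact Subgroup.commutator_mem_commutator trivial trivial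

/-- Commuting members of a class of 3-transpositions agree modulo the second derived group. -/
theorem mul_mem_second {E : Set H} (hconj : ∀ g : H, ∀ e ∈ E, g * e * g⁻¹ ∈ E)
    (hsq : ∀ e ∈ E, e * e = 1) (hgen : Subgroup.closure E = ⊤)
    (hsingle : ∀ e ∈ E, ∀ f ∈ E, ∃ g : H, g * e * g⁻¹ = f)
    (hord : ∀ e ∈ E, ∀ f ∈ E, (e * f) ^ 2 = 1 ∨ (e * f) ^ 3 = 1)
    {e f : H} (he : e ∈ E) (hf : f ∈ E) (hc : Commute e f) :
    e * f ∈ (⁅commutator H, commutator H⁆ : Subgroup H) := by
  set B : Subgroup H := ⁅commutator H, commutator H⁆ with hB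
  haveI : B.Normal := by rw [hB]; infer_instance
  have hSC := prods_le_commutator hsq hsingle
  set q := QuotientGroup.mk' B with hq
  have hq1 : ∀ a : H, q a = 1 ↔ a ∈ B := fun a => QuotientGroup.eq_one_iff a
  have hcomm : ∀ s ∈ prods E, ∀ t ∈ prods E, q s * q t = q t * q s := by
    intro s hs t ht
    have h1 : ⁅s, t⁆ ∈ B := Subgroup.commutator_mem_commutator (hSC hs) (hSC ht)
    rw [← hq1, map_commutatorElement, commutatorElement_eq_one_iff_mul_comm] at h1
    exact h1
  have ee : e⁻¹ = e := by rw [inv_eq_iff_mul_eq_one]; exact hsq e he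
  have qe : q e * q e = 1 := by rw [← map_mul, hsq e he, map_one]
  have hinv : ∀ s ∈ prods E, q e * q s * q e = (q s)⁻¹ := by
    intro s hs
    have hN := prods_normal hconj
    induction hs using Subgroup.closure_induction with
    | mem x hx =>
      obtain ⟨f, hf, g, hg, rfl⟩ := hx
      rw [eq_inv_iff_mul_eq_one]
      have h1 : q e * q (f * g) * q e * q (f * g) = q (e * f) * (q (g * e) * q (f * g)) := by
        simp only [map_mul, mul_assoc]
      rw [h1, hcomm _ (mul_mem_prods hg he) _ (mul_mem_prods hf hg)]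
      simp only [← map_mul]
      have h2 : e * f * (f * g * (g * e)) = e * (f * f) * (g * g) * e := by group
      rw [h2, hsq f hf, hsq g hg, mul_one, mul_one, hsq e he, map_one]
    | one => rw [map_one, mul_one, qe, inv_one]
    | mul x y hx hy hx' hy' =>
      have h1 : q e * q (x * y) * q e = (q e * q x * q e) * (q e * q y * q e) := by
        calc q e * q (x * y) * q e = q e * q x * 1 * q y * q e := by
              simp only [map_mul, mul_assoc, one_mul]
          _ = (q e * q x * q e) * (q e * q y * q e) := by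
              rw [← qe]; simp only [mul_assoc]
      rw [h1, hx', hy', map_mul, mul_inv_rev, ← mul_inv_rev, ← mul_inv_rev, hcomm x hx y hy]
    | inv x hx hx' =>
      have h1 : q e * q x⁻¹ * q e = (q e * q x * q e)⁻¹ := by
        have qe' : (q e)⁻¹ = q e := by rw [inv_eq_iff_mul_eq_one]; exact qe
        rw [mul_inv_rev, mul_inv_rev, qe', map_inv, mul_assoc]
      rw [h1, hx', map_inv]
  have h6 : ∀ s ∈ prods E, (q s) ^ 6 = 1 := by
    intro s hs
    induction hs using Subgroup.closure_induction with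
    | mem x hx =>
      obtain ⟨f, hf, g, hg, rfl⟩ := hx
      rw [← map_pow]
      rcases hord f hf g hg with h | h
      · have : (f * g) ^ 6 = ((f * g) ^ 2) ^ 3 := by rw [← pow_mul]
        rw [this, h, one_pow, map_one]
      · have : (f * g) ^ 6 = ((f * g) ^ 3) ^ 2 := by rw [← pow_mul]
        rw [this, h, one_pow, map_one]
    | one => rw [map_one, one_pow]
    | mul x y hx hy hx' hy' =>
      have h1 : Commute (q x) (q y) := hcomm x hx y hy
      rw [map_mul, h1.mul_pow, hx', hy', one_mul]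
    | inv x hx hx' => rw [map_inv, inv_pow, hx', inv_one]
  obtain ⟨g, hg⟩ := hsingle e he f hf
  have key : ∃ s ∈ prods E, s * e * s⁻¹ = f := by
    rcases mem_prods_or hconj hsq hgen he g with h | h
    · exact ⟨g, h, hg⟩
    · refine ⟨g * e, h, ?_⟩
      rw [← hg]
      group
  obtain ⟨s, hs, hsf⟩ := key
  have h1 : q (e * f) = (q s)⁻¹ * (q s)⁻¹ := by
    rw [← hinv s hs, hinv s hs, ← hsf]
    have h2 : q (e * (s * e * s⁻¹)) = (q e * q s * q e) * (q s)⁻¹ := by
      simp only [map_mul, map_inv, mul_assoc]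
    rw [h2, hinv s hs]
  have h2 : (q s) ^ 4 = 1 := by
    have h3 : q (e * f) * q (e * f) = 1 := by
      rw [← map_mul]
      have h4 : e * f * (e * f) = (e * e) * (f * f) := by
        rw [mul_assoc, ← mul_assoc f e f, ← hc.eq]
        simp only [mul_assoc]
      rw [h4, hsq e he, hsq f hf, one_mul, map_one]
    rw [h1] at h3
    have h5 : (q s) ^ 4 = ((q s)⁻¹ * (q s)⁻¹ * ((q s)⁻¹ * (q s)⁻¹))⁻¹ := by group
    rw [h5, h3, inv_one]
  have h3 : (q s) ^ 2 = 1 := by
    have h4 := h6 s hs
    have h5 : (q s) ^ 6 = (q s) ^ 4 * (q s) ^ 2 := by rw [← pow_add]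
    rw [h5, h2, one_mul] at h4
    exact h4
  rw [← hq1, h1]
  have h4 : (q s)⁻¹ * (q s)⁻¹ = ((q s) ^ 2)⁻¹ := by group
  rw [h4, h3, inv_one]

end General

section Main

variable {G : Type*} [Group G] {D : Set G}

/-- The Fischer hypotheses. -/
structure FGroup (D : Set G) : Prop where
  fd : FData D
  sol : ∀ N : Subgroup G, N.Normal → Group.IsSolvable ↥N → N = ⊥
  perf : ⁅commutator G, commutator G⁆ = commutator G

/-- the transpositions commuting with `x` -/
abbrev Dx (D : Set G) (x : G) : Set G := {y : G | y ∈ D ∧ y ≠ x ∧ Commute x y}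

/-- the group generated by `Dx` -/
abbrev HH (D : Set G) (x : G) : Subgroup G :=
  Subgroup.closure {y : G | y ∈ D ∧ y ≠ x ∧ Commute x y}

/-- `Dx` inside `HH` -/
def E (D : Set G) (x : G) : Set (HH D x) := {a | (a : G) ∈ Dx D x}

/-- the quotient `HH / Z(HH)` -/
abbrev KK (D : Set G) (x : G) : Type _ := HH D x ⧸ Subgroup.center (HH D x)

/-- the image of `Dx` in `KK` -/
def Eb (D : Set G) (x : G) : Set (KK D x) := (QuotientGroup.mk : HH D x → KK D x) '' E D x

theorem mem_E {x : G} {a : HH D x} : a ∈ E D x ↔ (a : G) ∈ Dx D x := Iff.rfl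

theorem commute_of_mem_HH {x g : G} (hg : g ∈ HH D x) : Commute g x := by
  have hle : HH D x ≤ Subgroup.centralizer {x} := by
    rw [Subgroup.closure_le]
    intro d hd
    rw [SetLike.mem_coe, Subgroup.mem_centralizer_singleton_iff]
    exact hd.2.2.symm.eq
  exact Subgroup.mem_centralizer_singleton_iff.1 (hle hg)

theorem mem_HH_of {x a : G} (ha : a ∈ Dx D x) : a ∈ HH D x := Subgroup.subset_closure ha

theorem cj_mem_Dx (h : FData D) {x g a : G} (hg : Commute g x) (ha : a ∈ Dx D x) :
    g * a * g⁻¹ ∈ Dx D x := by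
  obtain ⟨h1, h2, h3⟩ := ha
  have e1 : g * x * g⁻¹ = x := by rw [hg.eq]; group
  refine ⟨h.conj g a h1, ?_, ?_⟩
  · intro h4
    apply h2
    rw [← e1] at h4
    exact mul_left_cancel (mul_right_cancel h4)
  · have := (FData.commute_conj_gen g x a).2 h3
    rwa [e1] at this

theorem cj_mem_E (h : FData D) {x : G} (g : HH D x) {a : HH D x} (ha : a ∈ E D x) :
    g * a * g⁻¹ ∈ E D x := by
  have := cj_mem_Dx h (commute_of_mem_HH g.2) (mem_E.1 ha)
  rw [mem_E]
  simpa using this

theorem closure_E (x : G) : Subgroup.closure (E D x) = ⊤ := by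
  have h1 : (Subgroup.closure (E D x)).map (HH D x).subtype = (HH D x) := by
    rw [MonoidHom.map_closure]
    congr 1
    ext y
    constructor
    · rintro ⟨a, ha, rfl⟩
      exact ha
    · intro hy
      exact ⟨⟨y, mem_HH_of hy⟩, hy, rfl⟩
  apply Subgroup.map_injective (HH D x).subtype_injective
  rw [h1, ← MonoidHom.range_eq_map, Subgroup.range_subtype]

theorem sq_E (h : FData D) {x : G} {a : HH D x} (ha : a ∈ E D x) : a * a = 1 :=
  Subtype.ext (h.sq _ (mem_E.1 ha).1)

theorem ord_E (h : FData D) {x : G} {a b : HH D x} (ha : a ∈ E D x) (hb : b ∈ E D x) :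
    (a * b) ^ 2 = 1 ∨ (a * b) ^ 3 = 1 := by
  rcases Cfsg.Agent.SporadicStructure.FischerSolv.pow_two_or_three h (mem_E.1 ha).1 (mem_E.1 hb).1 with h1 | h1
  · left
    apply Subtype.ext
    simpa using h1
  · right
    apply Subtype.ext
    simpa using h1

/-- Distinct elements of `Dx` have different commuting sets inside `Dx`. -/
def Thin (D : Set G) (x : G) : Prop :=
  ∀ a ∈ Dx D x, ∀ b ∈ Dx D x, (∀ d ∈ D, Commute d x → (Commute d a ↔ Commute d b)) → a = b

theorem single_E [Finite G] (F : FGroup D) {x : G} (hx : x ∈ D) {a b : HH D x} (ha : a ∈ E D x)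
    (hb : b ∈ E D x) : ∃ g : HH D x, g * a * g⁻¹ = b := by
  obtain ⟨g, hg, hgab⟩ := perp_single_class F.fd F.sol F.perf hx _ (mem_E.1 ha) _ (mem_E.1 hb)
  exact ⟨⟨g, hg⟩, Subtype.ext hgab⟩

theorem mk_inj {x : G} (ht : Thin D x) {a b : HH D x} (ha : a ∈ E D x) (hb : b ∈ E D x)
    (hab : (a : KK D x) = (b : KK D x)) : a = b := by
  rw [QuotientGroup.eq] at hab
  rw [Subgroup.mem_center_iff] at hab
  apply Subtype.ext
  apply ht _ (mem_E.1 ha) _ (mem_E.1 hb)
  intro d hd hdx
  by_cases hdx' : d = x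
  · subst hdx'
    exact ⟨fun _ => (mem_E.1 hb).2.2, fun _ => (mem_E.1 ha).2.2⟩
  · have hdm : d ∈ HH D x := mem_HH_of ⟨hd, hdx', hdx.symm⟩
    have h1 := hab ⟨d, hdm⟩
    have h2 : d * ((a : G)⁻¹ * b) = ((a : G)⁻¹ * b) * d := congrArg Subtype.val h1
    constructor
    · intro h3
      have h4 : Commute d ((a : G)⁻¹ * b) := h2
      have h5 := h3.mul_right h4
      rwa [mul_inv_cancel_left] at h5
    · intro h3
      have h4 : Commute d ((a : G)⁻¹ * b) := h2
      have h5 := h3.mul_right h4.inv_right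
      rwa [mul_inv_rev, inv_inv, ← mul_assoc, mul_inv_cancel, one_mul] at h5

theorem mk_commute (h : FData D) {x : G} (ht : Thin D x) {a b : HH D x} (ha : a ∈ E D x)
    (hb : b ∈ E D x) : Commute (a : KK D x) (b : KK D x) ↔ Commute (a : G) (b : G) := by
  constructor
  · intro hc
    by_contra hnc
    -- (ab)^3 = 1 and (āb̄)^2 = 1
    have hbr := h.braid _ (mem_E.1 ha).1 _ (mem_E.1 hb).1 hnc
    have h1 : a * b * a = b * a * b := Subtype.ext (by simpa using hbr)
    have h2 : (a : KK D x) * b * a = b * a * b := by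
      rw [← QuotientGroup.mk_mul, ← QuotientGroup.mk_mul, ← QuotientGroup.mk_mul,
        ← QuotientGroup.mk_mul, h1]
    rw [hc.eq, mul_assoc, mul_assoc] at h2
    have h3 := mul_left_cancel h2
    have sa : (a : KK D x) * a = 1 := by
      rw [← QuotientGroup.mk_mul, sq_E h ha]; rfl
    rw [sa] at h3
    have sb : (b : KK D x) * b = 1 := by
      rw [← QuotientGroup.mk_mul, sq_E h hb]; rfl
    have h4 : (a : KK D x) = b := by
      rw [eq_inv_of_mul_eq_one_left h3.symm]
      exact inv_eq_of_mul_eq_one_left sb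
    have h5 := mk_inj ht ha hb h4
    rw [h5] at hnc
    exact hnc (Commute.refl _)
  · intro hc
    have h1 : a * b = b * a := Subtype.ext hc.eq
    show (a : KK D x) * b = b * a
    rw [← QuotientGroup.mk_mul, h1]; rfl

theorem mk_ne_one (h : FData D) {x : G} (hns : ¬ Group.IsSolvable (HH D x)) [Finite G]
    (F : FGroup D) (hx : x ∈ D) {a : HH D x} (ha : a ∈ E D x) : (a : KK D x) ≠ 1 := by
  intro h1
  rw [QuotientGroup.eq_one_iff] at h1
  apply hns
  apply Group.isSolvable_of_comm
  have h2 : E D x = {a} := by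
    ext b
    constructor
    · intro hb
      obtain ⟨g, hg⟩ := single_E F hx ha hb
      rw [Subgroup.mem_center_iff] at h1
      rw [h1 g] at hg
      rw [Set.mem_singleton_iff, ← hg]
      group
    · intro hb
      rw [Set.mem_singleton_iff.1 hb]
      exact ha
  have h3 := closure_E (D := D) x
  rw [h2] at h3
  intro u v
  have hu : u ∈ Subgroup.closure {a} := by rw [h3]; trivial
  have hv : v ∈ Subgroup.closure {a} := by rw [h3]; trivial
  rw [Subgroup.mem_closure_singleton] at hu hv
  obtain ⟨m, rfl⟩ := hu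
  obtain ⟨n, rfl⟩ := hv
  rw [← zpow_add, ← zpow_add, add_comm]

theorem isThree_Eb [Finite G] (F : FGroup D) {x : G} (hx : x ∈ D)
    (hns : ¬ Group.IsSolvable (HH D x)) : Cfsg.IsThreeTranspositionClass (Eb D x) := by
  have h := F.fd
  have hne : (E D x).Nonempty := by
    by_contra hne
    rw [Set.not_nonempty_iff_eq_empty] at hne
    have h3 := closure_E (D := D) x
    rw [hne, Subgroup.closure_empty] at h3
    apply hns
    apply Group.isSolvable_of_comm
    intro u v
    have hu : u ∈ (⊥ : Subgroup (HH D x)) := by rw [h3]; trivial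
    have hv : v ∈ (⊥ : Subgroup (HH D x)) := by rw [h3]; trivial
    rw [Subgroup.mem_bot.1 hu, Subgroup.mem_bot.1 hv]
  obtain ⟨a0, ha0⟩ := hne
  refine ⟨⟨?_, ?_⟩, ⟨(a0 : KK D x), ⟨a0, ha0, rfl⟩, ?_⟩, ?_⟩
  · rintro _ ⟨a, ha, rfl⟩
    rw [orderOf_eq_prime_iff]
    refine ⟨?_, mk_ne_one h hns F hx ha⟩
    rw [pow_two, ← QuotientGroup.mk_mul, sq_E h ha]; rfl
  · rintro _ ⟨a, ha, rfl⟩ _ ⟨b, hb, rfl⟩
    rcases ord_E h ha hb with h1 | h1
    · left
      rw [← QuotientGroup.mk_mul, ← QuotientGroup.mk_pow, h1]; rfl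
    · right
      rw [← QuotientGroup.mk_mul, ← QuotientGroup.mk_pow, h1]; rfl
  · ext y
    show _ ↔ IsConj _ _
    rw [isConj_iff]
    constructor
    · rintro ⟨b, hb, rfl⟩
      obtain ⟨g, hg⟩ := single_E F hx ha0 hb
      exact ⟨(g : KK D x), by rw [← hg]; rfl⟩
    · rintro ⟨c, rfl⟩
      obtain ⟨g, rfl⟩ := QuotientGroup.mk_surjective c
      exact ⟨g * a0 * g⁻¹, cj_mem_E h g ha0, rfl⟩
  · have h1 : Subgroup.closure (Eb D x) =
        (Subgroup.closure (E D x)).map (QuotientGroup.mk' (Subgroup.center (HH D x))) := by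
      rw [MonoidHom.map_closure]; rfl
    rw [h1, closure_E, ← MonoidHom.range_eq_map]
    exact MonoidHom.range_eq_top.2 (QuotientGroup.mk'_surjective _)

theorem sol_KK [Finite G] {x : G}
    (h2 : Cfsg.pCore 2 (HH D x) ≤ Subgroup.center (HH D x))
    (ho : Cfsg.oddCore (HH D x) ≤ Subgroup.center (HH D x)) :
    ∀ N : Subgroup (KK D x), N.Normal → Group.IsSolvable ↥N → N = ⊥ := by
  intro N hN hs
  set q := QuotientGroup.mk' (Subgroup.center (HH D x)) with hq
  have h1 : (N.comap q).Normal := hN.comap q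
  have h3 : Group.IsSolvable (N.comap q) := by
    let f : (N.comap q) →* N := q.subgroupComap N
    haveI : Group.IsSolvable N := hs
    have hk : f.ker ≤ (Subgroup.inclusion (show Subgroup.center (HH D x) ≤ N.comap q from ?_)).range := ?_
    · haveI : Group.IsSolvable (Subgroup.center (HH D x)) :=
        Group.isSolvable_of_comm (fun a b => Subtype.ext (Subgroup.mem_center_iff.1 b.2 a))
      exact Group.isSolvable_of_ker_le_range _ f hk
    · intro z hz
      rw [Subgroup.mem_comap]
      have : q z = 1 := (QuotientGroup.eq_one_iff z).2 hz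
      rw [this]
      exact N.one_mem
    · intro g hg
      rw [MonoidHom.mem_ker] at hg
      have h4 : q (g : HH D x) = 1 := congrArg Subtype.val hg
      have h5 : (g : HH D x) ∈ Subgroup.center (HH D x) := (QuotientGroup.eq_one_iff _).1 h4
      exact ⟨⟨g, h5⟩, rfl⟩
  have h4 := solvable_normal_le_center h2 ho _ h1 h3
  rw [eq_bot_iff]
  intro y hy
  obtain ⟨g, rfl⟩ := QuotientGroup.mk'_surjective _ y
  have h5 : g ∈ Subgroup.center (HH D x) := h4 hy
  rw [Subgroup.mem_bot]
  exact (QuotientGroup.eq_one_iff g).2 h5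

/-- If `Dx` is pairwise non-commuting then `HH` is solvable. -/
theorem solvable_of_pairwise [Finite G] (h : FData D) {x : G}
    (hp : ∀ a ∈ Dx D x, ∀ b ∈ Dx D x, Commute a b → a = b) : Group.IsSolvable (HH D x) := by
  have hconj : ∀ g : HH D x, ∀ e ∈ E D x, g * e * g⁻¹ ∈ E D x := fun g e he => cj_mem_E h g he
  have hsq : ∀ e ∈ E D x, e * e = 1 := fun e he => sq_E h he
  have h3 : ∀ e ∈ E D x, ∀ f ∈ E D x, (e * f) ^ 3 = 1 := by
    intro e he f hf
    by_cases hc : Commute (e : G) (f : G)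
    · have h1 : e = f := Subtype.ext (hp _ he _ hf hc)
      rw [h1, hsq f hf, one_pow]
    · have hbr := h.braid _ (mem_E.1 he).1 _ (mem_E.1 hf).1 hc
      have h1 : e * f * e = f * e * f := Subtype.ext (by simpa using hbr)
      have h2 : (e * f) ^ 3 = (e * f * e) * (f * e * f) := by
        rw [pow_succ, pow_two]; simp only [mul_assoc]
      rw [h2, ← h1]
      have h4 : e * f * e * (e * f * e) = e * f * (e * e) * f * e := by simp only [mul_assoc]
      rw [h4, hsq e he, mul_one, mul_assoc e f f, hsq f hf, mul_one, hsq e he]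
  have hP := Cfsg.Agent.Lib.HallTriple.isPGroup_closure_mul_of_normal (T := E D x) hsq hconj h3
  by_cases hne : (E D x).Nonempty
  · have hN := prods_normal (E := E D x) hconj
    have hle := commutator_le_prods hconj hsq (closure_E (D := D) x) hne
    have hPs : Group.IsSolvable (prods (E D x)) := by
      haveI : Fact (Nat.Prime 3) := ⟨Nat.prime_three⟩
      haveI : Group.IsNilpotent (prods (E D x)) := IsPGroup.isNilpotent hP
      infer_instance
    haveI := hPs
    haveI : Group.IsSolvable (commutator (HH D x)) :=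
      Group.isSolvable_of_isSolvable_injective (f := Subgroup.inclusion hle)
        (Subgroup.inclusion_injective _)
    refine Group.isSolvable_of_ker_le_range (commutator (HH D x)).subtype
      (Abelianization.of (G := HH D x)) ?_
    rw [Abelianization.ker_of, Subgroup.range_subtype]
  · rw [Set.not_nonempty_iff_eq_empty] at hne
    have h3 := closure_E (D := D) x
    rw [hne, Subgroup.closure_empty] at h3
    apply Group.isSolvable_of_comm
    intro u v
    have hu : u ∈ (⊥ : Subgroup (HH D x)) := by rw [h3]; trivial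
    have hv : v ∈ (⊥ : Subgroup (HH D x)) := by rw [h3]; trivial
    rw [Subgroup.mem_bot.1 hu, Subgroup.mem_bot.1 hv]

theorem perf_KK [Finite G] (F : FGroup D) (R : Rk D) {x : G} (hx : x ∈ D) (ht : Thin D x)
    (hns : ¬ Group.IsSolvable (HH D x)) :
    ⁅commutator (KK D x), commutator (KK D x)⁆ = commutator (KK D x) := by
  have h := F.fd
  have h3 := isThree_Eb F hx hns
  have f3 := fdata_of_class h3
  set B : Subgroup (KK D x) := ⁅commutator (KK D x), commutator (KK D x)⁆ with hB
  have hord : ∀ e ∈ Eb D x, ∀ f ∈ Eb D x, (e * f) ^ 2 = 1 ∨ (e * f) ^ 3 = 1 := h3.1.2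
  have hcom : ∀ a ∈ E D x, ∀ b ∈ E D x, Commute (a : G) (b : G) →
      (a : KK D x) * (b : KK D x) ∈ B := by
    intro a ha b hb hc
    exact mul_mem_second (E := Eb D x) f3.conj f3.sq f3.gen f3.single hord ⟨a, ha, rfl⟩
      ⟨b, hb, rfl⟩ ((mk_commute h ht ha hb).2 hc)
  by_cases hall : ∀ a ∈ E D x, ∀ b ∈ E D x, (a : KK D x) * (b : KK D x) ∈ B
  · apply le_antisymm
    · exact Subgroup.commutator_le_right _ _
    · refine (commutator_le_prods (E := Eb D x) f3.conj f3.sq f3.gen f3.nonempty).trans ?_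
      rw [prods, Subgroup.closure_le]
      rintro _ ⟨_, ⟨a, ha, rfl⟩, _, ⟨b, hb, rfl⟩, rfl⟩
      exact hall a ha b hb
  · exfalso
    push Not at hall
    obtain ⟨a, ha, y, hy, hay⟩ := hall
    have htr : ∀ u ∈ E D x, Commute (a : G) (u : G) → Commute (u : G) (y : G) → False := by
      intro u hu h1 h2
      apply hay
      have h3 := B.mul_mem (hcom a ha u hu h1) (hcom u hu y hy h2)
      have h4 : (a : KK D x) * u * (u * y) = a * y := by
        have su : (u : KK D x) * u = 1 := by
          rw [← QuotientGroup.mk_mul, sq_E h hu]; rfl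
        rw [mul_assoc, ← mul_assoc (u : KK D x) u y, su, one_mul]
      rwa [h4] at h3
    have hay' : ¬ Commute (a : G) (y : G) := fun hc => hay (hcom a ha y hy hc)
    have hxa : Commute x (a : G) := (mem_E.1 ha).2.2
    have hxy : Commute x (y : G) := (mem_E.1 hy).2.2
    -- no element of Dx commutes with a and y
    have hno : ∀ d ∈ D, d ≠ x → Commute x d → Commute d a → Commute d y → False := by
      intro d hd hdx hxd h1 h2
      exact htr ⟨d, mem_HH_of ⟨hd, hdx, hxd⟩⟩ ⟨hd, hdx, hxd⟩ h1.symm h2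
    have hpair : ∀ d ∈ D, ∀ d' ∈ D, Commute d a → Commute d y → Commute d' a → Commute d' y →
        Commute d d' → d = d' := by
      intro d hd d' hd' h1 h2 h3 h4 h5
      by_contra hne
      by_cases hdx : d = x
      · subst hdx
        exact hno d' hd' (fun h => hne h.symm) h5 h3 h4
      by_cases hdx' : d' = x
      · subst hdx'
        exact hno d hd hne h5.symm h1 h2
      have hcd : ¬ Commute x d := fun hc => hno d hd hdx hc h1 h2
      have hcd' : ¬ Commute x d' := fun hc => hno d' hd' hdx' hc h3 h4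
      have e1 := s4_commute h hd hd' hx h5 hcd hcd'
      have e2 := s4_ne h hd hd' hx hne hcd hcd'
      refine hno (cj d (cj d' x)) (cj_mem h (cj_mem h hx)) e2 e1 ?_ ?_
      · exact (commute_cj_of h1.symm (commute_cj_of h3.symm hxa.symm)).symm
      · exact (commute_cj_of h2.symm (commute_cj_of h4.symm hxy.symm)).symm
    -- transfer to all non-commuting pairs
    have hgen : ∀ b ∈ D, ∀ c ∈ D, ¬ Commute b c → ∀ d ∈ D, ∀ d' ∈ D, Commute d b → Commute d c →
        Commute d' b → Commute d' c → Commute d d' → d = d' := by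
      intro b hb c hc hbc d hd d' hd' h1 h2 h3 h4 h5
      obtain ⟨g, hg1, hg2⟩ := pair_conj_col R hb hc (mem_E.1 ha).1 (mem_E.1 hy).1 hbc hay'
      have := hpair (cj g d) (cj_mem h hd) (cj g d') (cj_mem h hd')
        (by rw [← hg1]; exact commute_cj.2 h1) (by rw [← hg2]; exact commute_cj.2 h2)
        (by rw [← hg1]; exact commute_cj.2 h3) (by rw [← hg2]; exact commute_cj.2 h4)
        (commute_cj.2 h5)
      exact cj_inj.1 this
    have htrans : ∀ b ∈ Dx D x, ∀ u ∈ Dx D x, ∀ c ∈ Dx D x, Commute b u → Commute u c →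
        Commute b c := by
      intro b hb u hu c hc h1 h2
      by_contra h3
      exact hu.2.1 (hgen b hb.1 c hc.1 h3 u hu.1 x hx h1.symm h2 hb.2.2 hc.2.2 hu.2.2.symm)
    apply hns
    apply solvable_of_pairwise h
    intro b hb u hu hbu
    apply ht b hb u hu
    intro d hd hdx
    by_cases hdx' : d = x
    · subst hdx'
      exact ⟨fun _ => hu.2.2, fun _ => hb.2.2⟩
    · have hd' : d ∈ Dx D x := ⟨hd, hdx', hdx.symm⟩
      exact ⟨fun h1 => htrans d hd' b hb u hu h1 hbu, fun h1 => htrans d hd' u hu b hb h1 hbu.symm⟩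

theorem isThree_of_fdata (h : FData D) : Cfsg.IsThreeTranspositionClass D := by
  obtain ⟨a0, ha0⟩ := h.nonempty
  refine ⟨⟨?_, fun d hd e he => Cfsg.Agent.SporadicStructure.FischerSolv.pow_two_or_three h hd he⟩,
    ⟨a0, ha0, ?_⟩, h.gen⟩
  · intro d hd
    rw [orderOf_eq_prime_iff]
    exact ⟨by rw [pow_two]; exact h.sq d hd, h.ne_one d hd⟩
  · ext y
    show _ ↔ IsConj _ _
    rw [isConj_iff]
    constructor
    · intro hy
      exact h.single a0 ha0 y hy
    · rintro ⟨c, rfl⟩
      exact h.conj c a0 ha0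

theorem rk_of_FGroup [Finite G] (F : FGroup D) : Rk D :=
  rk_of_hyps F.sol F.perf (isThree_of_fdata F.fd)
    (fun _ hx => perp_single_class F.fd F.sol F.perf hx)

/-- Commuting lines have two points only. -/
def ThinLines (D : Set G) : Prop :=
  ∀ x ∈ D, ∀ y ∈ D, x ≠ y → Commute x y → ∀ z ∈ Line D x y, z = x ∨ z = y

theorem thin_of_thinLines (ht : ThinLines D) {x : G} (hx : x ∈ D) : Thin D x := by
  intro a ha b hb hab
  rcases ht x hx a ha.1 ha.2.1.symm ha.2.2 b ⟨hb.1, fun d hd h1 h2 => (hab d hd h1).1 h2⟩ with h | h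
  · exact absurd h hb.2.1
  · exact h.symm

theorem pCore_le_of_thinLines [Finite G] (R : Rk D) (ht : ThinLines D) {x : G} (hx : x ∈ D) :
    Cfsg.pCore 2 (HH D x) ≤ Subgroup.center (HH D x) := by
  by_contra hc
  have T := Cfsg.Agent.ThreeTransPolar.Main.thick_of_pCore R hx hc
  obtain ⟨z, hz, hzx, hcz⟩ := R.exPerp x hx
  obtain ⟨u, hu, h1, h2⟩ := T.third x hx z hz hzx.symm hcz
  rcases ht x hx z hz hzx.symm hcz u hu with h | h
  · exact h1 h
  · exact h2 h

theorem not_solvable_of_thinLines [Finite G] (F : FGroup D) (ht : ThinLines D) {x : G}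
    (hx : x ∈ D) (ho : Cfsg.oddCore (HH D x) ≤ Subgroup.center (HH D x)) :
    ¬ Group.IsSolvable (HH D x) := by
  intro hs
  rcases Cfsg.Agent.SporadicStructure.FSolReduce.tau_or_core F.fd F.sol F.perf hx hs with h | h
  · obtain ⟨z, a, b, hz, ha, hb, hba⟩ := h
    rcases ht z hz a ha.1 ha.2.1.symm ha.2.2 b ⟨hb.1.1, fun d hd h1 h2 => by
      have h3 : d ∈ Cfsg.Agent.SporadicStructure.FSolBase.T D z a := ⟨hd, h1, h2⟩
      rw [hb.2] at h3
      exact h3.2.2⟩ with h4 | h4
    · exact hb.1.2.1 h4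
    · exact hba h4
  · exact h ho

/-- **Inheritance.** -/
theorem inherit [Finite G] (F : FGroup D) (ht : ThinLines D) {x : G} (hx : x ∈ D)
    (ho : Cfsg.oddCore (HH D x) ≤ Subgroup.center (HH D x)) : FGroup (Eb D x) := by
  have R := rk_of_FGroup F
  have hns := not_solvable_of_thinLines F ht hx ho
  exact ⟨fdata_of_class (isThree_Eb F hx hns), sol_KK (pCore_le_of_thinLines R ht hx) ho,
    perf_KK F R hx (thin_of_thinLines ht hx) hns⟩

open Classical in
/-- the projection `HH → KK`, as a function on `G`. -/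
noncomputable def β (D : Set G) (x : G) (g : G) : KK D x :=
  if hg : g ∈ HH D x then ((⟨g, hg⟩ : HH D x) : KK D x) else 1

theorem β_of {x g : G} (hg : g ∈ HH D x) : β D x g = ((⟨g, hg⟩ : HH D x) : KK D x) := by
  rw [β, dif_pos hg]

theorem β_mul {x g k : G} (hg : g ∈ HH D x) (hk : k ∈ HH D x) :
    β D x (g * k) = β D x g * β D x k := by
  rw [β_of hg, β_of hk, β_of (mul_mem hg hk)]; rfl

theorem β_inv {x g : G} (hg : g ∈ HH D x) : β D x g⁻¹ = (β D x g)⁻¹ := by
  rw [β_of hg, β_of (inv_mem hg)]; rfl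

theorem β_mem {x a : G} (ha : a ∈ Dx D x) : β D x a ∈ Eb D x := by
  rw [β_of (mem_HH_of ha)]
  exact ⟨_, ha, rfl⟩

theorem β_surj {x : G} {c : KK D x} (hc : c ∈ Eb D x) : ∃ a ∈ Dx D x, β D x a = c := by
  obtain ⟨a, ha, rfl⟩ := hc
  refine ⟨a, ha, ?_⟩
  rw [β_of (mem_HH_of ha)]

theorem β_surj' {x : G} (c : KK D x) : ∃ g ∈ HH D x, β D x g = c := by
  obtain ⟨a, rfl⟩ := QuotientGroup.mk_surjective c
  exact ⟨a, a.2, by rw [β_of a.2]⟩

theorem β_inj {x : G} (ht : Thin D x) {a b : G} (ha : a ∈ Dx D x) (hb : b ∈ Dx D x)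
    (hab : β D x a = β D x b) : a = b := by
  rw [β_of (mem_HH_of ha), β_of (mem_HH_of hb)] at hab
  have := mk_inj ht (a := ⟨a, mem_HH_of ha⟩) (b := ⟨b, mem_HH_of hb⟩) ha hb hab
  exact congrArg Subtype.val this

theorem β_commute (h : FData D) {x : G} (ht : Thin D x) {a b : G} (ha : a ∈ Dx D x)
    (hb : b ∈ Dx D x) : Commute (β D x a) (β D x b) ↔ Commute a b := by
  rw [β_of (mem_HH_of ha), β_of (mem_HH_of hb)]
  exact mk_commute h ht (a := ⟨a, mem_HH_of ha⟩) (b := ⟨b, mem_HH_of hb⟩) ha hb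

theorem β_conj {x g k : G} (hg : g ∈ HH D x) (hk : k ∈ HH D x) :
    β D x (g * k * g⁻¹) = β D x g * β D x k * (β D x g)⁻¹ := by
  rw [β_mul (mul_mem hg hk) (inv_mem hg), β_mul hg hk, β_inv hg]

theorem β_third {x a b : G} (ha : a ∈ Dx D x) (hb : b ∈ Dx D x) :
    β D x (a * b * a) = β D x a * β D x b * β D x a := by
  have h1 := mem_HH_of ha
  have h2 := mem_HH_of hb
  rw [β_mul (mul_mem h1 h2) h1, β_mul h1 h2]

end Main

end Cfsg.Agent.Fischer160.Inherit
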